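import Groth.Agent.TopVanishLib.Basic
import Groth.Agent.BlowExistsLib.Glue
import Groth.Agent.BlowCompLib.Basic
import Groth.Agent.LocImmBlow.Basic
import Groth.Agent.RelAssLib.Generic
import Groth.Agent.DimFormulaLib.Field

/-!
# Lichtenbaum: top cohomology vanishes on a nonproper variety
-/

set_option autoImplicit false
set_option backward.isDefEq.respectTransparency false
set_option linter.style.haveILetI false

universe u

open CategoryTheory CategoryTheory.Limits AlgebraicGeometry TopologicalSpace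

noncomputable section

namespace Groth.Agent.TopVanishLib

variable {k : Type u} [Field k]

/-- A variety is an affine open of a proper integral scheme, with a boundary if it is not proper. -/
theorem exists_affine_compactification {U : Scheme.{u}} (f : U ⟶ Spec (CommRingCat.of k)) [IsIntegral U]
    [IsSeparated f] [LocallyOfFiniteType f] [QuasiCompact f] :
    ∃ (Z : Scheme.{u}) (p : Z ⟶ Spec (CommRingCat.of k)) (j : U ⟶ Z),
      IsIntegral Z ∧ IsProper p ∧ IsOpenImmersion j ∧ IsAffineHom j ∧ j ≫ p = f := by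
  obtain ⟨Xc, j₀, g, hj₀, -, hg, hjg⟩ := S0384.result f
  haveI : IsLocallyNoetherian Xc := LocallyOfFiniteType.isLocallyNoetherian g
  let C : Closeds Xc := ⟨(Set.range j₀)ᶜ, j₀.isOpenEmbedding.isOpen_range.isClosed_compl⟩
  let I := Scheme.IdealSheafData.vanishingIdeal C
  obtain ⟨X', b, hb⟩ := BlowExistsLib.exists_isBlowUp I
  haveI : IsProper b := BlowExistsLib.isProper_of_FG hb (LocImmBlow.isFiniteTypeIdeal I)
  let W : Xc.Opens := I.support.compl
  have hW : (W : Set Xc) = Set.range j₀ := by
    show ((I.support : Set Xc))ᶜ = _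
    rw [Scheme.IdealSheafData.coe_support_vanishingIdeal]
    show ((Set.range j₀)ᶜ)ᶜ = _
    exact compl_compl _
  haveI : IsIso (b ∣_ W) := BlowCompLib.isIso_restrict I b hb
  have hV : b ⁻¹ᵁ W = (I.comap b).support.compl := by
    ext x
    show b x ∈ W ↔ x ∉ (I.comap b).support
    rw [Scheme.IdealSheafData.support_comap]
    rfl
  haveI : IsAffineHom (b ⁻¹ᵁ W).ι := by
    rw [hV]
    exact (S1571.result X' (I.comap b) hb.1).1
  let e : U ≅ W.toScheme := IsOpenImmersion.isoOfRangeEq j₀ W.ι (by rw [Scheme.Opens.range_ι, hW])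
  let j₁ : U ⟶ X' := (e.hom ≫ inv (b ∣_ W)) ≫ (b ⁻¹ᵁ W).ι
  haveI : IsOpenImmersion j₁ := inferInstanceAs (IsOpenImmersion ((e.hom ≫ inv (b ∣_ W)) ≫ (b ⁻¹ᵁ W).ι))
  haveI : IsAffineHom j₁ := inferInstanceAs (IsAffineHom ((e.hom ≫ inv (b ∣_ W)) ≫ (b ⁻¹ᵁ W).ι))
  have hj₁ : j₁ ≫ b ≫ g = f := by
    have h1 : inv (b ∣_ W) ≫ (b ⁻¹ᵁ W).ι ≫ b = W.ι := by
      rw [IsIso.inv_comp_eq, morphismRestrict_ι]
    rw [← hjg]
    simp only [j₁, Category.assoc]
    rw [reassoc_of% h1, ← Category.assoc, IsOpenImmersion.isoOfRangeEq_hom_fac]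
  -- the closure of the image
  let C' : Closeds X' := Closeds.closure {j₁ (genericPoint U)}
  let J := Scheme.IdealSheafData.vanishingIdeal C'
  haveI : IsIntegral J.subscheme := RelAssLib.isIntegral_vanishingIdeal_closure _
  haveI : Surjective (pullback.fst j₁ J.subschemeι) := ⟨fun u => by
    have hu : j₁ u ∈ Set.range J.subschemeι := by
      rw [Scheme.IdealSheafData.range_subschemeι, Scheme.IdealSheafData.coe_support_vanishingIdeal]
      exact specializes_iff_mem_closure.1 ((genericPoint_specializes u).map j₁.continuous)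
    have h : u ∈ Set.range (pullback.fst j₁ J.subschemeι) := by
      rw [Scheme.Pullback.range_fst]
      exact hu
    exact h⟩
  haveI : IsIso (pullback.fst j₁ J.subschemeι) := isIso_of_isClosedImmersion_of_surjective _
  let jZ : U ⟶ J.subscheme := inv (pullback.fst j₁ J.subschemeι) ≫ pullback.snd j₁ J.subschemeι
  haveI : IsOpenImmersion jZ := inferInstanceAs (IsOpenImmersion (inv _ ≫ pullback.snd j₁ J.subschemeι))
  haveI : IsAffineHom (pullback.snd j₁ J.subschemeι) := MorphismProperty.pullback_snd _ _ inferInstance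
  haveI : IsAffineHom jZ := inferInstanceAs (IsAffineHom (inv _ ≫ pullback.snd j₁ J.subschemeι))
  haveI : IsProper g := hg
  refine ⟨_, J.subschemeι ≫ b ≫ g, jZ, inferInstance, inferInstance, inferInstance, inferInstance, ?_⟩
  simp only [jZ, Category.assoc]
  rw [← pullback.condition_assoc, IsIso.inv_hom_id_assoc, hj₁]

/-- **Lichtenbaum**: no cohomology in degree `dim U` on a nonproper variety `U`. -/
theorem subsingleton_of_not_proper {U : Scheme.{u}} (f : U ⟶ Spec (CommRingCat.of k)) [IsIntegral U]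
    [IsSeparated f] [LocallyOfFiniteType f] [QuasiCompact f] (F : U.Modules) [Coh.IsQCoh F] (d : ℕ)
    (hd : topologicalKrullDim U = d) (hf : ¬ IsProper f) : Subsingleton (Coh.HH U F d) := by
  obtain ⟨Z, p, j, _, _, _, _, hjp⟩ := exists_affine_compactification f
  letI : Z.Over (Spec (CommRingCat.of k)) := ⟨p⟩
  haveI : IsProper (Z ↘ Spec (CommRingCat.of k)) := ‹IsProper p›
  refine subsingleton_of_affine_compl (k := k) j (fun h => hf ?_) F d ?_
  · haveI : Surjective j := ⟨Set.range_eq_univ.1 h⟩
    haveI : IsIso j := (isIso_iff_isOpenImmersion_and_surjective j).2 ⟨inferInstance, inferInstance⟩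
    rw [← hjp]
    infer_instance
  · rw [← DimFormulaLib.topologicalKrullDim_opens p j.opensRange ⟨j (genericPoint U), _, rfl⟩, ← hd]
    exact (IsHomeomorph.topologicalKrullDim_eq _ j.isOpenEmbedding.isEmbedding.toHomeomorph.isHomeomorph).symm

end Groth.Agent.TopVanishLib
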