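import Groth.Agent.TwistShriek.TopDualField
import Groth.Agent.TwistShriek.DualizingS2
import Groth.Agent.ProDerLib.Amplitude
import Groth.Agent.PullbackMod.SuppClosed

/-!
# Top cohomology does not vanish on a proper variety
-/

set_option autoImplicit false
set_option linter.style.haveILetI false
set_option linter.unusedSectionVars false
set_option backward.isDefEq.respectTransparency false
set_option maxHeartbeats 1000000

universe u

open CategoryTheory CategoryTheory.Limits AlgebraicGeometry
open Groth.Agent.DCohLib Groth.Agent.CohBase Groth.Agent.TwistShriek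

attribute [local instance] HasDerivedCategory.standard

noncomputable section

namespace Groth.Agent.TopVanishLib

/-- A proper variety of dimension `d` has a coherent module with nonzero `H^d`. -/
theorem exists_nontrivial_top (k : Type u) [Field k] (X : Scheme.{u}) [X.Over (Spec (CommRingCat.of k))]
    [IsProper (X ↘ Spec (CommRingCat.of k))] [IsIntegral X] (d : ℕ) (hd : topologicalKrullDim X = d) :
    ∃ G : X.Modules, Coh.IsCoh G ∧ Nontrivial (Coh.HH X G d) := by
  let f := X ↘ Spec (CommRingCat.of k)
  let Y := Spec (CommRingCat.of k)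
  haveI : ∀ (U : Scheme.{u}) (j : U ⟶ X) [IsOpenImmersion j],
      PreservesFiniteLimits (Scheme.Modules.restrictFunctor j) :=
    fun U j _ => preservesFiniteLimits_restrictFunctor j
  haveI : ∀ (R : CommRingCat.{u}), PreservesFiniteLimits (tilde.functor R) :=
    fun R => TildeD.preservesFiniteLimits_tilde
  haveI : IsNoetherianRing (CommRingCat.of k) := inferInstanceAs (IsNoetherianRing k)
  haveI : IsLocallyNoetherian X := LocallyOfFiniteType.isLocallyNoetherian f
  haveI : CompactSpace X := QuasiCompact.compactSpace_of_compactSpace f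
  haveI : QuasiSeparatedSpace X := quasiSeparatedSpace_of_quasiSeparated f
  haveI : IsNoetherian X := {}
  haveI : DCoh.HasRpush f := Groth.Agent.KInj.hasRightDerivedFunctor (hres_modules X) _
  have h : ∀ K : DCoh.D X, DCoh.IsQCohD K → DCoh.IsQCohD ((DCoh.Rpush f).obj K) :=
    fun K hK => DCohMore.isQCohD_rpush f K hK
  haveI := DQCohBrown.isLeftAdjoint_rpushQ f h
  let a := (DCoh.RpushQ f h).rightAdjoint
  let adj : DCoh.RpushQ f h ⊣ a := Adjunction.ofIsLeftAdjoint (DCoh.RpushQ f h)
  have hOq : DCoh.IsQCohD (DCoh.inD Y (Coh.structureModule Y)) :=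
    TildeD.isQCohD_of_iso ((DerivedCategory.singleFunctorIsoCompQ Y.Modules 0).app _).symm
      (DCohMore.isQCohD_sgl₀ _ (inferInstanceAs (Coh.IsQCoh (Coh.structureModule Y))))
  let O : DCoh.DQCoh Y := ⟨_, hOq⟩
  obtain ⟨hdual, hamp, hsupp⟩ := Groth.Agent.S1811.result k X d hd f rfl h a adj O ⟨Iso.refl _⟩
  have hM : (a.obj O).obj.IsGE (-(d : ℤ)) :=
    (DerivedCategory.isGE_iff _ _).2 fun i hi => hamp i (Or.inl hi)
  let c : (ΓA k).obj (DCoh.HD O.obj 0) ≃ₗ[k] k :=
    ((ΓA k).mapIso ((DerivedCategory.singleFunctorCompHomologyFunctorIso Y.Modules 0).app _ ≪≫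
        (tildeSelf (R := CommRingCat.of k)).symm) ≪≫
      ((tilde.toTildeΓNatIso (R := CommRingCat.of k)).app _).symm).toLinearEquiv
  obtain ⟨t, ht⟩ := exists_trace_shift k X h a adj O 0
    (inferInstanceAs ((DCoh.inD Y (Coh.structureModule Y)).IsGE 0)) d (-(d : ℤ)) (by omega) hM k c
  let ω := DCoh.HD (a.obj O).obj (-(d : ℤ))
  have hω : Coh.IsCoh ω := (bddCoh_of_isDualizingSch hdual).1 _
  refine ⟨ω, hω, not_subsingleton_iff_nontrivial.1 fun hsub => ?_⟩
  -- the identity of `ω` is zero
  have hid : 𝟙 ω = 0 := by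
    obtain ⟨φ, -, huniq⟩ := ht ω hω.1 (fun j hj =>
      GrothVan.subsingleton_H_of_dim_le (X := X.toPresheafedSpace.carrier) hd.le (Coh.toAb ω) hj) 0
    exact (huniq (𝟙 ω) fun x => by rw [hsub.elim x 0]; simp).trans
      (huniq 0 fun x => by rw [hsub.elim x 0]; simp).symm
  -- but its generic stalk is not
  let η := genericPoint X
  obtain ⟨Ω, hΩ, he⟩ := exists_local_dualizing hdual η
  have hall : ∀ i : ℤ, Subsingleton ((DCoh.HD (a.obj O).obj i).presheaf.stalk η) := fun i => by
    by_cases hi : i = -(d : ℤ)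
    · subst hi
      exact subsingleton_stalk_of_isZero ((IsZero.iff_id_eq_zero ω).2 hid) η
    by_cases hi' : i < -(d : ℤ) ∨ 0 < i
    · exact subsingleton_stalk_of_isZero (hamp i hi') η
    obtain ⟨n, hn⟩ : ∃ n : ℕ, (n : ℤ) = -i := ⟨(-i).toNat, by omega⟩
    by_contra hne
    have huniv : {x : X | Nontrivial ((DCoh.HD (a.obj O).obj i).presheaf.stalk x)} = Set.univ :=
      Set.eq_univ_of_forall fun x => by
        have hcl := PullbackMod.isClosed_support_of_isFT ((bddCoh_of_isDualizingSch hdual).1 i).2
        have hx : x ∈ CohB1.support (DCoh.HD (a.obj O).obj i) :=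
          (genericPoint_specializes x).mem_closed hcl hne
        exact not_subsingleton_iff_nontrivial.1 hx
    have hle := hsupp i n hn
    rw [huniv, (Homeomorph.Set.univ ↥X).isHomeomorph.topologicalKrullDim_eq, hd] at hle
    have : d ≤ n := by exact_mod_cast hle
    omega
  haveI hz : IsZero Ω := ProDerLib.isZero_of_homology Ω fun i =>
    ModuleCat.isZero_iff_subsingleton.2 (by
      haveI := hall i
      exact (he i).some.toEquiv.subsingleton)
  exact zero_ne_one (α := X.presheaf.stalk η) (hΩ.toEnd_bijective.1 (hz.eq_of_src _ _))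

end Groth.Agent.TopVanishLib
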