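import Groth.Agent.S1752
import Groth.Agent.S0012
import Groth.Agent.S0384
import Groth.Agent.S1571
import Groth.Agent.CurveLib.Euler
import Groth.Agent.QCohLib.Coherent
import Groth.Agent.QCohLib.Push
import Groth.Agent.PullbackMod.SuppClosed
import Groth.Agent.ExtSeqLib.Stalks
import Groth.Agent.DevLib.Piece

/-!
# Lichtenbaum: top cohomology of quasi-coherent modules off a nonempty boundary vanishes
-/

set_option autoImplicit false
set_option backward.isDefEq.respectTransparency false
set_option linter.style.haveILetI false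

universe u

open CategoryTheory CategoryTheory.Limits AlgebraicGeometry TopologicalSpace
open Groth.Agent.PullbackMod

noncomputable section

namespace Groth.Agent.TopVanishLib

/-- A proper closed subset of an irreducible space has smaller dimension. -/
theorem dim_le_of_closed_ne {T : Type*} [TopologicalSpace T] [IrreducibleSpace T] {e : ℕ}
    (hd : topologicalKrullDim T = ((e + 1 : ℕ) : WithBot ℕ∞)) {C : Set T} (hC : IsClosed C) (hne : C ≠ Set.univ) :
    topologicalKrullDim C ≤ (e : WithBot ℕ∞) := by
  refine iSup_le fun p => ?_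
  let top : IrreducibleCloseds T := ⟨Set.univ, IrreducibleSpace.isIrreducible_univ T, isClosed_univ⟩
  let f : IrreducibleCloseds C → IrreducibleCloseds T := fun Z =>
    ⟨Subtype.val '' (Z : Set C), Z.isIrreducible.image _ continuous_subtype_val.continuousOn,
      hC.isClosedEmbedding_subtypeVal.isClosedMap _ Z.isClosed⟩
  have hf : StrictMono f := fun Z Z' h =>
    SetLike.coe_ssubset_coe.1 (Subtype.val_injective.image_strictMono (SetLike.coe_ssubset_coe.2 h))
  have hlt : (p.map f hf).last < top := SetLike.coe_ssubset_coe.1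
    ⟨Set.subset_univ _, fun h => hne (Set.eq_univ_of_forall fun x => by
      have hx : x ∈ Subtype.val '' (p.last : Set C) := h (show x ∈ (top : Set T) from trivial)
      obtain ⟨y, -, hy⟩ := hx
      exact hy ▸ y.2)⟩
  let q : LTSeries (IrreducibleCloseds T) := (p.map f hf).snoc top hlt
  have h := (Order.LTSeries.length_le_krullDim q).trans hd.le
  have hlen : q.length = p.length + 1 := rfl
  rw [hlen] at h
  have h' : p.length + 1 ≤ e + 1 := by exact_mod_cast h
  exact_mod_cast Nat.le_of_succ_le_succ h'

variable {k : Type u} [Field k]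

set_option synthInstance.maxHeartbeats 200000 in
set_option maxHeartbeats 1600000 in
/-- Top cohomology vanishes on the affine complement of a nonempty boundary in a proper integral scheme. -/
theorem subsingleton_of_affine_compl {X U : Scheme.{u}} [X.Over (Spec (CommRingCat.of k))]
    [IsProper (X ↘ Spec (CommRingCat.of k))] [IsIntegral X] (j : U ⟶ X) [IsOpenImmersion j] [IsAffineHom j]
    [Nonempty U] (hj : Set.range j ≠ Set.univ) (F : U.Modules) [Coh.IsQCoh F] (d : ℕ)
    (hd : topologicalKrullDim X = d) : Subsingleton (Coh.HH U F d) := by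
  haveI : IsLocallyNoetherian X := LocallyOfFiniteType.isLocallyNoetherian (X ↘ Spec (CommRingCat.of k))
  haveI : CompactSpace X := QuasiCompact.compactSpace_of_compactSpace (X ↘ Spec (CommRingCat.of k))
  haveI : IsNoetherian X := {}
  obtain ⟨z, hz⟩ := (Set.ne_univ_iff_exists_notMem _).1 hj
  -- the dimension is positive
  obtain ⟨e, rfl⟩ : ∃ e, d = e + 1 := by
    refine ⟨d - 1, (Nat.succ_pred_eq_of_ne_zero fun h0 => ?_).symm⟩
    subst h0
    have hsub : ∀ x y : X, x = y := fun x y => by
      have h := CurveLib.closure_singleton_eq (X := X) (C := Set.univ) isClosed_univ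
        (le_of_eq ((IsHomeomorph.topologicalKrullDim_eq _ (Homeomorph.Set.univ ↥X).isHomeomorph).trans hd))
        (Set.mem_univ (genericPoint X))
      rw [(genericPoint_spec X).def] at h
      rw [h.le (Set.mem_univ x), h.le (Set.mem_univ y)]
    obtain ⟨y⟩ := ‹Nonempty U›
    exact hz ⟨y, hsub _ _⟩
  obtain ⟨ω, t, hω, huniv⟩ := S1752.result k X (e + 1) hd
  let M : X.Modules := (Coh.push j).obj F
  have hM : Coh.IsQCoh M := QCohLib.isQCoh_pushforward F j
  -- maps to the dualizing module
  have key : ∀ φ : M ⟶ ω, φ = 0 := by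
    intro φ
    have hstalk : stalkLin φ z = 0 := LinearMap.ext fun s => by
      obtain ⟨W, hzW, m, rfl⟩ := ExtSeq.exists_germ_affine z s
      rw [stalkLin_germ, LinearMap.zero_apply]
      haveI := QCohLib.isNoetherianRing_section W.2
      haveI := QCohLib.finite_sections_of_isCoh hω W.2
      let P := (W.2.primeIdealOf ⟨z, hzW⟩).asIdeal
      have hV : IsAffineOpen (j ⁻¹ᵁ W.1) := W.2.preimage j
      have hspan : Ideal.span ((j.app W.1).hom '' (P : Set Γ(X, W.1))) = ⊤ := by
        rw [← hV.self_le_iSup_basicOpen_iff]
        intro y hy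
        suffices h : ∃ a ∈ P, j y ∈ X.basicOpen a by
          obtain ⟨a, ha, hay⟩ := h
          refine Opens.mem_iSup.2 ⟨⟨_, a, ha, rfl⟩, ?_⟩
          rw [← Scheme.preimage_basicOpen]
          exact hay
        by_contra! hall
        have hle : W.2.primeIdealOf ⟨z, hzW⟩ ≤ W.2.primeIdealOf ⟨j y, hy⟩ := fun a ha => by
          by_contra hn
          refine hall a ha ?_
          have h : W.2.fromSpec (W.2.primeIdealOf ⟨j y, hy⟩) ∈ X.basicOpen a := by
            show W.2.primeIdealOf ⟨j y, hy⟩ ∈ W.2.fromSpec ⁻¹ᵁ X.basicOpen a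
            rw [W.2.fromSpec_preimage_basicOpen]
            exact hn
          rwa [W.2.fromSpec_primeIdealOf] at h
        have hsp := ((PrimeSpectrum.le_iff_specializes _ _).1 hle).map W.2.fromSpec.continuous
        rw [W.2.fromSpec_primeIdealOf, W.2.fromSpec_primeIdealOf] at hsp
        exact hz (hsp.mem_open j.isOpenEmbedding.isOpen_range ⟨y, rfl⟩)
      let φW := QCohLib.appLinear φ W.1
      have hdiv : ∀ m' : Γ(M, W.1), m' ∈ P • (⊤ : Submodule Γ(X, W.1) Γ(M, W.1)) := by
        have hall : ∀ b ∈ Ideal.span ((j.app W.1).hom '' (P : Set Γ(X, W.1))), ∀ m' : Γ(F, j ⁻¹ᵁ W.1),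
            (show Γ(M, W.1) from b • m') ∈ P • (⊤ : Submodule Γ(X, W.1) Γ(M, W.1)) := by
          intro b hb
          induction hb using Submodule.span_induction with
          | mem b hb =>
            obtain ⟨a, ha, rfl⟩ := hb
            intro m'
            exact Submodule.smul_mem_smul ha (Submodule.mem_top (x := (show Γ(M, W.1) from m')))
          | zero =>
            intro m'
            show (show Γ(M, W.1) from (0 : Γ(U, j ⁻¹ᵁ W.1)) • m') ∈ _
            rw [zero_smul]
            exact zero_mem _
          | add x y _ _ hx hy =>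
            intro m'
            show (show Γ(M, W.1) from (x + y) • m') ∈ _
            rw [add_smul]
            exact add_mem (hx m') (hy m')
          | smul c x _ hx =>
            intro m'
            show (show Γ(M, W.1) from (c • x) • m') ∈ _
            rw [smul_eq_mul, mul_comm, mul_smul]
            exact hx _
        intro m'
        have h := hall 1 (hspan ▸ Submodule.mem_top) m'
        rwa [one_smul] at h
      haveI : Module.Finite Γ(X, W.1) Γ(ω, W.1) := inferInstance
      obtain ⟨r, hr, hr0⟩ := Submodule.exists_sub_one_mem_and_smul_eq_zero_of_fg_of_le_smul P (LinearMap.range φW)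
        (IsNoetherian.noetherian _) (by
          rintro _ ⟨m', rfl⟩
          have h := Submodule.mem_map_of_mem (f := φW) (hdiv m')
          rw [Submodule.map_smul'', Submodule.map_top] at h
          exact h)
      have hu : IsUnit (X.presheaf.germ W.1 z hzW r) := by
        rw [← X.mem_basicOpen r z hzW]
        have h : W.2.fromSpec (W.2.primeIdealOf ⟨z, hzW⟩) ∈ X.basicOpen r := by
          show W.2.primeIdealOf ⟨z, hzW⟩ ∈ W.2.fromSpec ⁻¹ᵁ X.basicOpen r
          rw [W.2.fromSpec_preimage_basicOpen]
          intro hrP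
          refine (W.2.primeIdealOf ⟨z, hzW⟩).2.ne_top ((Ideal.eq_top_iff_one _).2 ?_)
          have h1 := sub_mem hrP hr
          rwa [sub_sub_cancel] at h1
        rwa [W.2.fromSpec_primeIdealOf] at h
      have h0 := congrArg (ω.presheaf.germ W.1 z hzW) (hr0 (φW m) ⟨m, rfl⟩)
      rw [map_zero] at h0
      have h1 : X.presheaf.germ W.1 z hzW r • ω.presheaf.germ W.1 z hzW (φ.app W.1 m) = 0 :=
        (ParaFLib.germ_smul' (M := ω) z hzW r (φ.app W.1 m)).symm.trans h0
      exact hu.smul_eq_zero.1 h1
    let T := Abelian.image φ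
    let ι : T ⟶ ω := Abelian.image.ι φ
    have hT : Coh.IsCoh T := QCohLib.isCoh_of_mono ι hω
      (QCohLib.isQCoh_image (cokernel.π φ) hω.1 (QCohLib.isQCoh_image φ hM hω.1).2).1
    have hTz : z ∉ CohB1.support T := fun h => h ⟨fun a b => by
      have he := (epi_iff_stalk (Abelian.factorThruImage φ)).1 inferInstance z
      have h0 : ∀ c, stalkLin ι z c = 0 := fun c => by
        obtain ⟨c, rfl⟩ := he c
        rw [← LinearMap.comp_apply, ← stalkLin_comp, Abelian.image.fac, hstalk]
        rfl
      exact (mono_iff_stalk ι).1 inferInstance z ((h0 a).trans (h0 b).symm)⟩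
    haveI : Subsingleton (Coh.HH X T (e + 1)) := CurveLib.subsingleton_HH_of_support T
      (isClosed_support_of_isFT hT.2) subset_rfl
      (dim_le_of_closed_ne hd (isClosed_support_of_isFT hT.2) fun h => hTz (h.symm ▸ Set.mem_univ z))
      (Nat.lt_succ_self e)
    have hι : ι = 0 := by
      obtain ⟨φ', -, huniq⟩ := huniv T hT.1 0
      have h1 := huniq ι fun x => by rw [Subsingleton.elim x 0]; simp
      have h2 := huniq 0 fun x => by rw [Subsingleton.elim x 0]; simp
      exact h1.trans h2.symm
    rw [← Abelian.image.fac φ]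
    show Abelian.factorThruImage φ ≫ ι = 0
    rw [hι, comp_zero]
  -- conclusion
  haveI : Subsingleton (Coh.HH X M (e + 1)) := by
    haveI : Module.Free k (Coh.HH X M (e + 1)) := Module.Free.of_divisionRing k _
    haveI : Module.Projective k (Coh.HH X M (e + 1)) := Module.Projective.of_free
    refine subsingleton_of_forall_eq 0 fun x => (Module.forall_dual_apply_eq_zero_iff k x).1 fun ψ => ?_
    obtain ⟨φ, hφ, -⟩ := huniv M hM ψ
    simp [hφ x, key φ, Sheaf.H.map, Abelian.Ext.postcomp]
  exact (S0012.result j F (e + 1)).some.toEquiv.subsingleton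

end Groth.Agent.TopVanishLib
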